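import Cfsg.Agent.H439.CC.Defs

/-!
# S4884, classical groups in cross characteristic: vanishing of `Θ` on the `q`-side (TTZ)

From the factorization `E1` of `TT` and the vanishing `E2` of `rho` on non-primary quotients: if there is no flag above
`A` with relative dimensions `ds` all of whose quotients are primary for the elements of `X₀ ⊆ X` (`X₀` commuting with
`X`), then `TT (rkS Adm X) ds A = 0`.

* `tt_zero`      : general sets `X₀ ⊆ X`;
* `tt_zero_act`  : `X₀ = act '' Q₀`, `X = act '' Q₀ ∪ {act g}`, `Q₀` commutative, `g` commuting with `Q₀`.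
-/

set_option autoImplicit false

namespace Cfsg.Agent.H236.CC

open Cfsg.Agent.H439.CC

universe u v

section

variable {F : Type u} [Field F] {V : Type v} [AddCommGroup V] [Module F V]

/-- the poset of the `X`-stable admissible subspaces of a finite space is finite -/
theorem finite_StP [Finite V] (Adm : Submodule F V → Prop) (X : Set (V ≃ₗ[F] V)) : Finite (StP Adm X) := by
  have h : Finite (Submodule F V) := Finite.of_injective (fun U : Submodule F V => (U : Set V)) SetLike.coe_injective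
  exact inferInstanceAs (Finite {U : Submodule F V // Adm U ∧ ∀ x ∈ X, U.map (x : V →ₗ[F] V) = U})

/-- the dimension is strictly monotone -/
theorem rkS_strictMono [Module.Finite F V] (Adm : Submodule F V → Prop) (X : Set (V ≃ₗ[F] V)) :
    StrictMono (rkS Adm X) := fun _ _ h => Submodule.finrank_lt_finrank_of_lt h

/-- **TTZ**: without a primary flag for the elements of `X₀`, the value of `TT` above `A` vanishes. -/
theorem tt_zero (hE1 : E1.{v}) (hE2 : E2.{u, v}) [Finite F] [Module.Finite F V] (Adm : Submodule F V → Prop)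
    (hdown : ∀ U U' : Submodule F V, U ≤ U' → Adm U' → Adm U) (X X₀ : Set (V ≃ₗ[F] V)) (hX : X₀ ⊆ X)
    (hcomm : ∀ x ∈ X₀, ∀ y ∈ X, x * y = y * x) :
    ∀ (ds : List ℕ), (∀ d ∈ ds, 1 ≤ d) → ∀ A : StP Adm X, ¬ PF Adm X₀ ds A.1 → TT (rkS Adm X) ds A = 0 := by
  have : Finite V := Module.finite_of_finite F
  have : Finite (StP Adm X) := finite_StP Adm X
  intro ds
  induction ds with
  | nil => exact fun _ A hA => absurd trivial hA
  | cons k ds ih =>
    intro hds A hA
    rw [hE1 (StP Adm X) (rkS Adm X) (rkS_strictMono Adm X) k ds A (hds k (List.mem_cons_self ..))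
      (fun d hd => hds d (List.mem_cons_of_mem _ hd))]
    refine finsum_eq_zero_of_forall_eq_zero ?_
    rintro ⟨B, hAB, hrk⟩
    by_cases hp : ∀ x ∈ X₀, Prim x A.1 B.1
    · have h0 : TT (rkS Adm X) ds B = 0 := by
        refine ih (fun d hd => hds d (List.mem_cons_of_mem _ hd)) B fun hB => hA ?_
        exact ⟨B.1, hAB, B.2.1, fun x hx => B.2.2 x (hX hx), hrk, hp, hB⟩
      show rho (rkS Adm X) k A B * TT (rkS Adm X) ds B = 0
      rw [h0, mul_zero]
    · push Not at hp
      obtain ⟨x, hx, hnp⟩ := hp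
      have h0 : rho (rkS Adm X) k A B = 0 :=
        hE2 F V Adm hdown X x (hX hx) (hcomm x hx) A B k hAB hrk hnp
      show rho (rkS Adm X) k A B * TT (rkS Adm X) ds B = 0
      rw [h0, zero_mul]

/-- the same for the images of a commutative subgroup `Q₀` and of an element `g` commuting with it -/
theorem tt_zero_act (hE1 : E1.{v}) (hE2 : E2.{u, v}) [Finite F] [Module.Finite F V] {Adm : Submodule F V → Prop}
    (hdown : ∀ U U' : Submodule F V, U ≤ U' → Adm U' → Adm U) {Gh : Type*} [Group Gh] (act : Gh →* (V ≃ₗ[F] V))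
    (Q₀ : Subgroup Gh) (hQ : ∀ x ∈ Q₀, ∀ y ∈ Q₀, x * y = y * x) (g : Gh) (hg : ∀ x ∈ Q₀, x * g = g * x)
    (ds : List ℕ) (hds : ∀ d ∈ ds, 1 ≤ d) (A : StP Adm (act '' (Q₀ : Set Gh) ∪ {act g}))
    (hA : ¬ PF Adm (act '' (Q₀ : Set Gh)) ds A.1) :
    TT (rkS Adm (act '' (Q₀ : Set Gh) ∪ {act g})) ds A = 0 := by
  refine tt_zero hE1 hE2 Adm hdown _ (act '' (Q₀ : Set Gh)) Set.subset_union_left ?_ ds hds A hA
  rintro _ ⟨x, hx, rfl⟩ y (⟨y, hy, rfl⟩ | rfl)
  · rw [← map_mul, ← map_mul, hQ x hx y hy]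
  · rw [← map_mul, ← map_mul, hg x hx]

/-- the binary digits are at least `1` -/
theorem one_le_of_mem_dig {N d : ℕ} (hd : d ∈ dig N) : 1 ≤ d := by
  obtain ⟨i, -, rfl⟩ := List.mem_map.1 hd
  exact Nat.one_le_two_pow

/-- the form for the digits of `N`, at the bottom -/
theorem tt_zero_bot (hE1 : E1.{v}) (hE2 : E2.{u, v}) [Finite F] [Module.Finite F V] {Adm : Submodule F V → Prop}
    (h0 : Adm ⊥) (hdown : ∀ U U' : Submodule F V, U ≤ U' → Adm U' → Adm U) {Gh : Type*} [Group Gh]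
    (act : Gh →* (V ≃ₗ[F] V)) (Q₀ : Subgroup Gh) (hQ : ∀ x ∈ Q₀, ∀ y ∈ Q₀, x * y = y * x) (g : Gh)
    (hg : ∀ x ∈ Q₀, x * g = g * x) (N : ℕ) (hA : ¬ PF Adm (act '' (Q₀ : Set Gh)) (dig N) ⊥) :
    TT (rkS Adm (act '' (Q₀ : Set Gh) ∪ {act g})) (dig N) (botS h0 _) = 0 :=
  tt_zero_act hE1 hE2 hdown act Q₀ hQ g hg (dig N) (fun _ hd => one_le_of_mem_dig hd) (botS h0 _) hA

end

end Cfsg.Agent.H236.CC
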